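import Cfsg.Agent.Lib.GW.Basic
import Cfsg.Agent.Lib.FrobeniusPComplement

/-!
# Groups whose `{p, q}`-subgroups have maximal normalizers: the local set-up
-/

set_option autoImplicit false

namespace CfsgLib.H5.MN

open Subgroup Cfsg CfsgLib.FT.BGN CfsgLib.FT.U4 CfsgLib.GW

variable {G : Type*} [Group G]

/-- The hypothesis, for a group without nontrivial solvable normal subgroup. -/
structure Hy (G : Type*) [Group G] : Prop where
  ns : ¬ Group.IsSolvable G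
  nn : ∀ H : Subgroup G, H ≠ ⊥ → Group.IsSolvable H → 𝐍(H) ≠ ⊤
  mx : ∀ (H : Subgroup G) (p q : ℕ), p.Prime → q.Prime → H ≠ ⊥ →
    (∀ r : ℕ, r.Prime → r ∣ Nat.card H → r = p ∨ r = q) → IsCoatom 𝐍(H)

theorem conj_eq_or_inv {x u : G} {r : ℕ} (hr : r.Prime) (hu : u ^ r = 1)
    (h1 : x * u * x⁻¹ ∈ zpowers u) (h2 : x * x * u = u * (x * x)) :
    x * u * x⁻¹ = u ∨ x * u * x⁻¹ = u⁻¹ := by
  obtain ⟨k, hk⟩ := mem_zpowers_iff.1 h1
  have h3 : u ^ (k * k) = u := by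
    rw [zpow_mul, hk, conj_zpow, hk]
    calc x * (x * u * x⁻¹) * x⁻¹ = (x * x * u) * (x * x)⁻¹ := by group
      _ = u := by rw [h2]; group
  have h4 : u ^ ((k - 1) * (k + 1)) = 1 := by
    rw [show (k - 1) * (k + 1) = k * k - 1 by ring, zpow_sub, h3]; simp
  rcases (Nat.dvd_prime hr).1 (orderOf_dvd_of_pow_eq_one hu) with h | h
  · left; rw [orderOf_eq_one_iff.1 h]; simp
  · rw [← orderOf_dvd_iff_zpow_eq_one, h] at h4
    rcases (Nat.prime_iff_prime_int.1 hr).dvd_or_dvd h4 with h5 | h5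
    · left
      rw [← h, orderOf_dvd_iff_zpow_eq_one, zpow_sub, zpow_one, mul_inv_eq_one] at h5
      rw [← hk, h5]
    · right
      rw [← h, orderOf_dvd_iff_zpow_eq_one, zpow_add, zpow_one] at h5
      rw [← hk, eq_inv_of_mul_eq_one_left h5]

theorem norm_zpowers_inv {t : G} (ht : orderOf t = 2) : 𝐍(zpowers t) = 𝐂[t] := by
  refine le_antisymm (fun g hg => ?_) ((cent_zpowers t).ge.trans (cent_le_norm _))
  rcases (mem_zpowers_inv ht).1 (conj_mem_of_mem_normalizer hg (mem_zpowers t)) with h | h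
  · exact absurd h (conj_ne_one_iff.2 (ne_one_of_inv ht))
  · exact mem_cent1_of_conj_eq h

variable [Finite G]

theorem isPGroup_zpowers {x : G} {r : ℕ} (h : orderOf x = r) : IsPGroup r (zpowers x) :=
  isPGroup_of_card_eq (by rw [Nat.card_zpowers, h])

theorem exists_orderOf_prime {H : Subgroup G} {r : ℕ} (hr : r.Prime) (h : r ∣ Nat.card H) :
    ∃ x ∈ H, orderOf x = r := by
  haveI := Fact.mk hr
  obtain ⟨x, hx⟩ := exists_prime_orderOf_dvd_card' r h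
  exact ⟨x, x.2, by rw [Subgroup.orderOf_coe, hx]⟩

theorem exists_odd_of_not_two {H : Subgroup G} (h : ¬ IsPGroup 2 H) :
    ∃ u ∈ H, (orderOf u).Prime ∧ orderOf u ≠ 2 := by
  by_contra hc
  push Not at hc
  refine h (IsPGroup.iff_card.2 ⟨_, Nat.eq_prime_pow_of_unique_prime_dvd Nat.card_pos.ne'
    fun {r} hr hd => ?_⟩)
  obtain ⟨x, hx, ho⟩ := exists_orderOf_prime hr hd
  rw [← ho] at hr ⊢
  exact hc x hx hr

theorem exists_inv_zpowers {x : G} (h : IsPGroup 2 (zpowers x)) (h1 : x ≠ 1) :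
    ∃ t ∈ zpowers x, orderOf t = 2 :=
  exists_orderOf_prime Nat.prime_two (h.card_eq_or_dvd.resolve_left fun e =>
    h1 (by simpa using card_eq_one.1 e))

theorem sylow_sup {p q : ℕ} (hp : p.Prime) (hq : q.Prime) (hpq : p ≠ q) {P Q : Subgroup G}
    (hP : IsPGroup p P) (hQ : IsPGroup q Q) (hn : Q ≤ 𝐍(P)) : IsSylowIn p P (P ⊔ Q) := by
  haveI := Fact.mk hq
  refine ⟨le_sup_left, hP, fun hd => ?_⟩
  rw [sup_comm, relIndex_sup_of_le_normalizer hn] at hd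
  obtain ⟨k, hk⟩ := IsPGroup.iff_card.1 hQ
  have := hd.trans (relIndex_dvd_card P Q)
  rw [hk] at this
  exact hpq ((Nat.prime_dvd_prime_iff_eq hp hq).1 (hp.dvd_of_dvd_pow this))

theorem mem_of_sup {p q : ℕ} (hp : p.Prime) (hq : q.Prime) (hpq : p ≠ q) {P Q : Subgroup G}
    (hP : IsPGroup p P) (hQ : IsPGroup q Q) (hn : Q ≤ 𝐍(P)) {x : G}
    (hx : IsPGroup p (zpowers x)) (hm : x ∈ P ⊔ Q) : x ∈ P := by
  haveI := Fact.mk hp
  exact le_of_normal_hallOf (hallOf_of_sylow (sylow_sup hp hq hpq hP hQ hn))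
    (sup_le le_normalizer hn) (isPiSubgroup_of_isPGroup hx rfl) (zpowers_le.2 hm) (mem_zpowers x)

theorem prime_eq_of_dvd {p r : ℕ} (hp : p.Prime) (hr : r.Prime) {P : Subgroup G}
    (hP : IsPGroup p P) (h : r ∣ Nat.card P) : r = p := by
  haveI := Fact.mk hp
  obtain ⟨k, hk⟩ := IsPGroup.iff_card.1 hP
  exact (Nat.prime_dvd_prime_iff_eq hr hp).1 (hr.dvd_of_dvd_pow (hk ▸ h))

theorem solvable_of_pgroup {p : ℕ} (hp : p.Prime) {P : Subgroup G} (hP : IsPGroup p P) :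
    Group.IsSolvable P := by
  haveI := Fact.mk hp
  haveI := hP.isNilpotent
  infer_instance

namespace Hy

variable (h : Hy G)
include h

theorem eq_of_le {M U : Subgroup G} (hM : IsCoatom M) (h1 : U ≠ ⊥) (hs : Group.IsSolvable U)
    (hle : M ≤ 𝐍(U)) : 𝐍(U) = M :=
  (hM.le_iff.1 hle).resolve_left (h.nn U h1 hs)

theorem coatom_p {p : ℕ} (hp : p.Prime) {P : Subgroup G} (hP : IsPGroup p P) (h1 : P ≠ ⊥) :
    IsCoatom 𝐍(P) :=
  h.mx P p p hp hp h1 fun _ hr hd => Or.inl (prime_eq_of_dvd hp hr hP hd)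

theorem norm_sup {p q : ℕ} (hp : p.Prime) (hq : q.Prime) (hpq : p ≠ q) {P Q : Subgroup G}
    (hP : IsPGroup p P) (hQ : IsPGroup q Q) (h1 : P ≠ ⊥) (hn : Q ≤ 𝐍(P)) :
    𝐍(P ⊔ Q) = 𝐍(P) := by
  haveI := Fact.mk hp
  refine (h.eq_of_le (h.mx (P ⊔ Q) p q hp hq (fun e => h1 (le_bot_iff.1 (e ▸ le_sup_left)))
    fun r hr hd => ?_) h1 (solvable_of_pgroup hp hP) (norm_le_norm_of_normal_hall
      (hallOf_of_sylow (sylow_sup hp hq hpq hP hQ hn)) (sup_le le_normalizer hn))).symm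
  rw [sup_comm] at hd
  rcases hr.dvd_mul.1 (hd.trans (card_sup_dvd_mul hn)) with h2 | h2
  · exact Or.inr (prime_eq_of_dvd hq hr hQ h2)
  · exact Or.inl (prime_eq_of_dvd hp hr hP h2)

theorem norm_eq_of_cent {p q : ℕ} (hp : p.Prime) (hq : q.Prime) (hpq : p ≠ q) {P Q : Subgroup G}
    (hP : IsPGroup p P) (hQ : IsPGroup q Q) (h1 : P ≠ ⊥) (h2 : Q ≠ ⊥) (hc : Q ≤ 𝐂(P)) :
    𝐍(P) = 𝐍(Q) := by
  rw [← h.norm_sup hp hq hpq hP hQ h1 (hc.trans (cent_le_norm _)), sup_comm,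
    h.norm_sup hq hp hpq.symm hQ hP h2 ((le_centralizer_iff.1 hc).trans (cent_le_norm _))]

theorem cent_eq {t u : G} (ht : orderOf t = 2) {r : ℕ} (hr : r.Prime) (hr2 : r ≠ 2)
    (hu : IsPGroup r (zpowers u)) (hu1 : u ≠ 1) (hc : t * u = u * t) : 𝐂[t] = 𝐍(zpowers u) := by
  rw [← norm_zpowers_inv ht]
  refine h.norm_eq_of_cent Nat.prime_two hr hr2.symm (isPGroup_zpowers ht) hu
    (zpowers_ne_bot.2 (ne_one_of_inv ht)) (zpowers_ne_bot.2 hu1) ?_
  rw [cent_zpowers, zpowers_le]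
  exact mem_cent1.2 hc.symm

theorem cent_eq' {t u : G} (ht : orderOf t = 2) (hr : (orderOf u).Prime) (hr2 : orderOf u ≠ 2)
    (hc : t * u = u * t) : 𝐂[t] = 𝐍(zpowers u) :=
  h.cent_eq ht hr hr2 (isPGroup_zpowers rfl) (fun e => by simp [e, Nat.not_prime_one] at hr) hc

theorem coatom_cent {t : G} (ht : orderOf t = 2) : IsCoatom 𝐂[t] := by
  rw [← norm_zpowers_inv ht]
  exact h.coatom_p Nat.prime_two (isPGroup_zpowers ht) (zpowers_ne_bot.2 (ne_one_of_inv ht))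

theorem norm_cent {t : G} (ht : orderOf t = 2) : 𝐍(𝐂[t]) ≤ 𝐂[t] := by
  have h1 : t ∈ 𝐂(𝐂[t]) := mem_cent.2 fun x hx => mem_cent1.1 hx
  have h2 : IsMulCommutative 𝐂(𝐂[t]) := isMulCommutative_iff'.2 fun a ha b hb =>
    mem_cent.1 hb a (cent_le_cent1 (self_mem_cent1 t) ha)
  refine (norm_le_norm_cent _).trans (h.eq_of_le (h.coatom_cent ht)
    (ne_bot_of_mem h1 (ne_one_of_inv ht)) ?_ (le_normalizer.trans (norm_le_norm_cent _))).le
  haveI := isNilpotent_of_comm h2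
  infer_instance

/-- The Frattini argument for a dihedral subgroup. -/
theorem dihedral {u s : G} (hr : (orderOf u).Prime) (hr2 : orderOf u ≠ 2) (hs : orderOf s = 2)
    (hi : s * u * s⁻¹ = u⁻¹) {m : G} (hm : m ∈ 𝐍(zpowers u)) :
    ∃ z ∈ zpowers u, z⁻¹ * m ∈ 𝐂[s] := by
  have hu1 : u ≠ 1 := fun e => by simp [e, Nat.not_prime_one] at hr
  have hi' : ∀ z ∈ zpowers u, s * z * s⁻¹ = z⁻¹ := by
    rintro _ ⟨k, rfl⟩
    simp only
    rw [← conj_zpow, hi, inv_zpow]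
  have hn : zpowers s ≤ 𝐍(zpowers u) := zpowers_le.2 (mem_normalizer_of_conj_mem fun z hz => by
    rw [hi' z hz]; exact inv_mem hz)
  have ho : Odd (Nat.card (zpowers u)) := by rw [Nat.card_zpowers]; exact hr.odd_of_ne_two hr2
  rw [← h.norm_sup hr Nat.prime_two hr2 (isPGroup_zpowers rfl) (isPGroup_zpowers hs)
    (zpowers_ne_bot.2 hu1) hn] at hm
  obtain ⟨z, hz, a, ha, e⟩ := (mem_sup_iff_of_le_normalizer' hn).1
    (conj_mem_of_mem_normalizer hm (mem_sup_right (mem_zpowers s)))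
  rcases (mem_zpowers_inv hs).1 ha with rfl | rfl
  · have := odd_orderOf_of_mem ho hz
    rw [← mul_one z, e, orderOf_conj, hs] at this
    exact absurd this (by decide)
  · obtain ⟨y, hy, rfl⟩ := exists_sqrt (odd_orderOf_of_mem ho hz)
    have hy' : y ∈ zpowers u := zpowers_le.2 hz hy
    refine ⟨y, hy', mem_cent1_of_conj_eq ?_⟩
    have h3 := hi' y⁻¹ (inv_mem hy')
    calc y⁻¹ * m * a * (y⁻¹ * m)⁻¹ = y⁻¹ * (m * a * m⁻¹) * y := by group
      _ = (a * y⁻¹ * a⁻¹) * a * y := by rw [← e, h3]; group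
      _ = a := by group

end Hy

end CfsgLib.H5.MN
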